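import Groth.Agent.SmoothShriek.RegularExt
import Groth.Agent.HomODer.Cartier
import Groth.Agent.S3634
import Groth.Agent.S3630

/-!
`ι^! O = (∧ʳ conormal)^∨[-r]` for a regular immersion of codimension `r`.
-/

set_option autoImplicit false
set_option backward.isDefEq.respectTransparency false
set_option backward.isDefEq.respectTransparency.types false
set_option linter.style.haveILetI false
set_option linter.unusedSectionVars false
set_option maxHeartbeats 800000

universe u

open CategoryTheory Limits AlgebraicGeometry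

attribute [local instance] HasDerivedCategory.standard

namespace Groth.Agent.SmoothShriek

theorem nonempty_adjoint_regular {X P : Scheme.{u}} [IsNoetherian P] {ι : X ⟶ P} [IsClosedImmersion ι] {r : ℕ}
    (hι : RegImm.IsRegularImmersionOfCodim RegImm.Kind.regular r ι) {L : X.Modules}
    (hL : ExtPow.IsExtPow r (Omega.conormal ι) L) [DCoh.HasRpush ι] {hi : DCoh.RpushPreservesQCoh ι}
    {d : DCoh.DQCoh P ⥤ DCoh.DQCoh X} (adj : DCoh.RpushQ ι hi ⊣ d) (O : DCoh.DQCoh P)
    (hO : Nonempty (O.obj ≅ DCoh.inD P (Coh.structureModule P))) :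
    Nonempty ((d.obj O).obj ≅ (DCoh.inD X (RefHull.dual L))⟦-(r : ℤ)⟧) := by
  haveI : Dual3.HasHomO ι := S3630.result _ _ ι
  haveI : EnoughInjectives P.Modules := inferInstance
  obtain ⟨eO⟩ := hO
  have hge : DerivedCategory.IsGE O.obj 0 :=
    (DerivedCategory.isGE_iff _ _).2 fun i hi => ((DerivedCategory.isGE_iff (DCoh.inD P _) 0).1
      (inferInstanceAs (((DerivedCategory.singleFunctor P.Modules 0).obj _).IsGE 0)) i hi).of_iso
        ((DerivedCategory.homologyFunctor _ i).mapIso eO)
  let K : (Dual3.IsBddBelowQ P).FullSubcategory := ⟨O, 0, hge⟩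
  obtain ⟨cmp⟩ := S3634.result _ P ι hi d adj
  let O' : DerivedCategory.Plus P.Modules := (Dual3.bddToPlus P).obj K
  obtain ⟨h₀, h₁⟩ := HomODer.homology_plus_single (Dual3.homO ι) (Coh.structureModule P) O' eO
  obtain ⟨hz, ⟨eH⟩⟩ := rightDerived_homO_unit hι hL
  let D := (d.obj O).obj
  let eD : D ≅ ((Dual3.RHomOPlus ι).obj O').obj := cmp.app K
  have hzD : ∀ j : ℤ, j ≠ (r : ℤ) → IsZero ((DerivedCategory.homologyFunctor _ j).obj D) := fun j hj => by
    refine IsZero.of_iso ?_ ((DerivedCategory.homologyFunctor _ j).mapIso eD)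
    rcases lt_or_ge j 0 with hn | hn
    · exact h₁ j hn
    · lift j to ℕ using hn
      exact IsZero.of_iso (hz j (by simpa using hj)) (h₀ j).some
  haveI : D.IsGE (r : ℤ) := (DerivedCategory.isGE_iff _ _).2 fun j hj => hzD j (by omega)
  haveI : D.IsLE (r : ℤ) := (DerivedCategory.isLE_iff _ _).2 fun j hj => hzD j (by omega)
  obtain ⟨N, ⟨eN⟩⟩ := DerivedCategory.exists_iso_singleFunctor_obj_of_isGE_of_isLE D (r : ℤ)
  let eN' : N ≅ RefHull.dual L :=
    ((DerivedCategory.singleFunctorCompHomologyFunctorIso _ (r : ℤ)).app N).symm ≪≫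
      (DerivedCategory.homologyFunctor _ (r : ℤ)).mapIso (eN.symm ≪≫ eD) ≪≫ (h₀ r).some ≪≫ eH
  exact ⟨eN ≪≫ (DerivedCategory.singleFunctor _ (r : ℤ)).mapIso eN' ≪≫
    ((SingleFunctors.shiftIso (DerivedCategory.singleFunctors X.Modules) (-(r : ℤ)) r 0 (by omega)).app _).symm⟩

end Groth.Agent.SmoothShriek
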