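import Groth.Agent.SmoothShriek.Diag
import Groth.Agent.SmoothShriek.Regular
import Groth.Agent.SectRank.Main
import Groth.Agent.FMTool.Mod
import Groth.Agent.FMTool.Adjoint
import Groth.Agent.S1510
import Groth.Agent.S7172
import Groth.Agent.S4267
import Groth.Agent.S1006

/-!
**`f^! O = Ω^n[n]` for smooth separated `f`.**
-/

set_option autoImplicit false
set_option backward.isDefEq.respectTransparency false
set_option backward.isDefEq.respectTransparency.types false
set_option linter.style.haveILetI false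
set_option linter.unusedSectionVars false
set_option maxHeartbeats 1600000

universe u

open CategoryTheory Limits AlgebraicGeometry

attribute [local instance] HasDerivedCategory.standard

namespace Groth.Agent.SmoothShriek

open Groth.Agent.DQCoh (RD)
open Groth.Agent.PerfGen Groth.Agent.DCohShriek

/-- a module in degree zero, as a complex -/
noncomputable def toDSingle {X : Scheme.{u}} (M : X.Modules) : DCoh.toD X (TorBC.sg M) ≅ DCoh.inD X M :=
  ((DerivedCategory.singleFunctorIsoCompQ X.Modules 0).app M).symm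

theorem nonempty_shriek_smooth {X Y : Scheme.{u}} [IsNoetherian X] [IsNoetherian Y] (n : ℕ) {f : X ⟶ Y}
    [SmoothOfRelativeDimension n f] [IsSeparated f] (c : DEt.Compactification f) [DCoh.HasRpush c.fbar]
    {hc : DCoh.RpushPreservesQCoh c.fbar} {a : DCoh.DQCoh Y ⥤ DCoh.DQCoh c.Xbar}
    (adj : DCoh.RpushQ c.fbar hc ⊣ a) (O : DCoh.DQCoh Y)
    (hO : Nonempty (O.obj ≅ DCoh.inD Y (Coh.structureModule Y))) {L : X.Modules}
    (hL : ExtPow.IsExtPow n (Omega.sheaf f) L) :
    Nonempty ((RD c.j).obj (a.obj O).obj ≅ (DCoh.inD X L)⟦(n : ℤ)⟧) := by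
  haveI : Smooth f := SmoothOfRelativeDimension.smooth n f
  haveI : LocallyOfFiniteType f := inferInstance
  haveI : Flat f := inferInstance
  let P := pullback f f
  let p₂ : P ⟶ X := pullback.snd f f
  let Δ : X ⟶ P := pullback.diagonal f
  have hP : IsPullback (pullback.fst f f) p₂ f f := IsPullback.of_hasPullback f f
  have h₁ : Δ ≫ pullback.fst f f = 𝟙 X := pullback.diagonal_fst f
  have h₂ : Δ ≫ p₂ = 𝟙 X := pullback.diagonal_snd f
  haveI : SmoothOfRelativeDimension n p₂ :=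
    (smoothOfRelativeDimension_isStableUnderBaseChange n).of_isPullback hP inferInstance
  haveI : Smooth p₂ := SmoothOfRelativeDimension.smooth n p₂
  haveI : QuasiCompact f := quasiCompact_of_compactSpace _
  haveI : QuasiCompact p₂ := MorphismProperty.of_isPullback (P := @QuasiCompact) hP ‹_›
  haveI : IsLocallyNoetherian P := LocallyOfFiniteType.isLocallyNoetherian p₂
  haveI : CompactSpace P := QuasiCompact.compactSpace_of_compactSpace p₂
  haveI : IsNoetherian P := {}
  haveI : IsClosedImmersion Δ := inferInstanceAs (IsClosedImmersion (pullback.diagonal f))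
  haveI := DerPush.hasRpush_sch Δ
  haveI := KFlat.hasLpull f
  have hι : RegImm.IsRegularImmersionOfCodim RegImm.Kind.regular n Δ :=
    SectRank.isRegularImmersionOfCodim_of_section n p₂ Δ h₂
  have hLi : PicF.IsInvertible L := ExtFund.isInvertible_pow hι hL
  have hMi : PicF.IsInvertible (RefHull.dual L) := W7Hull.isInvertible_dual hLi
  let M := RefHull.dual L
  let E := (TorBC.sg M)⟦-(n : ℤ)⟧
  haveI : DCoh.HasLTensorCx E := KFlat.hasLTensorCx _
  haveI := KFlat.hasLTensorCx (TorBC.sg M)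
  haveI := KFlat.hasLTensorCx (TorBC.sg L)
  haveI := KFlat.hasLTensorCx (DerSch.unitCx X)
  let eE : DCoh.toD X E ≅ (DCoh.inD X M)⟦-(n : ℤ)⟧ :=
    ((DerivedCategory.Q (C := X.Modules)).commShiftIso (-(n : ℤ))).app _ ≪≫
      (shiftFunctor (DCoh.D X) (-(n : ℤ))).mapIso (toDSingle M)
  have hperf : ∀ G : DCoh.D X, DCoh.IsPerfect G → DCoh.IsPerfect ((DCoh.Rpush Δ).obj G) := by
    intro G hG
    have hpm : MoreMor.IsPerfectMor Δ := S1510.result Δ p₂ (by
      rw [h₂]
      exact S7172.result (𝟙 X))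
    obtain ⟨-, a', b', ha', hb'⟩ := S1006.result X G hG
    haveI := ha'
    haveI := hb'
    exact S4267.result Δ hpm G a' hG
  obtain ⟨main⟩ := nonempty_shriek_diag_cx c adj hP Δ h₁ h₂ hperf E (fun hd d adjd O' hO' => by
    obtain ⟨e⟩ := nonempty_adjoint_regular hι hL adjd O' hO'
    exact ⟨e ≪≫ eE.symm⟩)
  obtain ⟨eO⟩ := hO
  have hb : Dual3.IsBddBelowQ Y O := ⟨0, (DerivedCategory.isGE_iff _ _).2 fun i hi =>
    ((DerivedCategory.isGE_iff (DCoh.inD Y _) 0).1
      (inferInstanceAs (((DerivedCategory.singleFunctor Y.Modules 0).obj _).IsGE 0)) i hi).of_iso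
        ((DerivedCategory.homologyFunctor _ i).mapIso eO)⟩
  let G := (RD c.j).obj (a.obj O).obj
  obtain ⟨u⟩ := PerfPush.nonempty_lpull_unit f
  let m : (DCoh.LTensorCx E).obj G ≅ DCoh.inD X (Coh.structureModule X) :=
    main.app ⟨O, hb⟩ ≪≫ (DCoh.Lpull f).mapIso eO ≪≫ u
  obtain ⟨sh⟩ := AVMukai.nonempty_ltensor_shift (TorBC.sg M) (-(n : ℤ))
  let U := Dual3Nu.unitShift X (n : ℤ)
  haveI : DCoh.HasLTensorCx U := KFlat.hasLTensorCx _
  -- `G ⊗ M = O[n]`
  let g : (DCoh.LTensorCx (TorBC.sg M)).obj G ≅ DCoh.toD X U :=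
    ((shiftFunctorCompIsoId (DCoh.D X) (-(n : ℤ)) (n : ℤ) (by omega)).app _).symm ≪≫
      (shiftFunctor (DCoh.D X) (n : ℤ)).mapIso ((sh.app G).symm ≪≫ m ≪≫
        (DerivedCategory.singleFunctorIsoCompQ X.Modules 0).app _) ≪≫
      (((DerivedCategory.Q (C := X.Modules)).commShiftIso (n : ℤ)).app _).symm
  -- tensor with `L`
  haveI := W7Hull.isIso_evDual hLi
  obtain ⟨eN⟩ := FMTool.nonempty_ltensor_sg hMi L
  obtain ⟨cmp⟩ := FMTool.nonempty_ltensor_comp (TorBC.sg M) (TorBC.sg L) (DerSch.unitCx X)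
    (DerivedCategory.Q.mapIso ((HomologicalComplex.single X.Modules (ComplexShape.up ℤ) 0).mapIso
      (TMul.commIso _ _ ≪≫ asIso (W7Hull.evDual L)).symm) ≪≫ eN)
  obtain ⟨one⟩ := Dual3Nu.nonempty_ltensor_unit_nat X
  obtain ⟨sw⟩ := FMTool.nonempty_ltensor_swap U (TorBC.sg L)
  obtain ⟨shU⟩ := Dual3Nu.nonempty_ltensor_iso_shift (n : ℤ) U (Iso.refl _)
  exact ⟨(one.app G).symm ≪≫ (cmp.app G).symm ≪≫ (DCoh.LTensorCx (TorBC.sg L)).mapIso g ≪≫ sw ≪≫
    shU.app _ ≪≫ (shiftFunctor (DCoh.D X) (n : ℤ)).mapIso (toDSingle L)⟩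

end Groth.Agent.SmoothShriek
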