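import Groth.Agent.S3634
import Groth.Agent.S3639
import Groth.Agent.S3630
import Groth.Agent.DCohShriek.Section
import Groth.Agent.DCohShriek.Adjoint
import Groth.Agent.Dual3Nu.Local
import Groth.Agent.AVMukai.Shift

/-!
`i^! O = O[-1]` for an effective Cartier divisor with trivial normal sheaf.
-/

set_option autoImplicit false
set_option backward.isDefEq.respectTransparency false
set_option backward.isDefEq.respectTransparency.types false
set_option linter.style.haveILetI false
set_option linter.unusedSectionVars false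
set_option maxHeartbeats 800000

universe u

open CategoryTheory Limits AlgebraicGeometry

attribute [local instance] HasDerivedCategory.standard

namespace Groth.Agent.SmoothShriek

open Groth.Agent.DQCoh (RD)
open Groth.Agent.PerfGen Groth.Agent.DCohShriek

/-- the subscheme itself -/
theorem nonempty_adjoint_subscheme {P : Scheme.{u}} [IsNoetherian P] (I : P.IdealSheafData)
    (hI : BlowUp.IsEffCartierIdeal I) (hL : ClSub.IsInverseOf (Coh.structureModule P) (ClSub.idealMod I))
    [DCoh.HasRpush I.subschemeι] {hi : DCoh.RpushPreservesQCoh I.subschemeι}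
    {d : DCoh.DQCoh P ⥤ DCoh.DQCoh I.subscheme} (adj : DCoh.RpushQ I.subschemeι hi ⊣ d) (O : DCoh.DQCoh P)
    (hO : Nonempty (O.obj ≅ DCoh.inD P (Coh.structureModule P))) :
    Nonempty ((d.obj O).obj ≅ (DCoh.inD I.subscheme (Coh.structureModule I.subscheme))⟦-(1 : ℤ)⟧) := by
  haveI : Dual3.HasHomO I.subschemeι := S3630.result _ _ I.subschemeι
  haveI : EnoughInjectives P.Modules := inferInstance
  obtain ⟨eO⟩ := hO
  have hge : DerivedCategory.IsGE O.obj 0 :=
    (DerivedCategory.isGE_iff _ _).2 fun i hi => ((DerivedCategory.isGE_iff (DCoh.inD P _) 0).1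
      (inferInstanceAs (((DerivedCategory.singleFunctor P.Modules 0).obj _).IsGE 0)) i hi).of_iso
        ((DerivedCategory.homologyFunctor _ i).mapIso eO)
  let K : (Dual3.IsBddBelowQ P).FullSubcategory := ⟨O, 0, hge⟩
  obtain ⟨cmp⟩ := S3634.result _ P I.subschemeι hi d adj
  let O' : DerivedCategory.Plus P.Modules := (Dual3.bddToPlus P).obj K
  obtain ⟨hz, ⟨eH⟩⟩ := S3639.result P I hI _ hL O' ⟨eO⟩
  let D := (d.obj O).obj
  let R := ((Dual3.RHomOPlus I.subschemeι).obj O').obj
  let eD : D ≅ R := cmp.app K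
  have hzD : ∀ j : ℤ, j ≠ 1 → IsZero ((DerivedCategory.homologyFunctor _ j).obj D) := fun j hj =>
    (hz j hj).of_iso ((DerivedCategory.homologyFunctor _ j).mapIso eD)
  haveI : D.IsGE 1 := (DerivedCategory.isGE_iff _ _).2 fun j hj => hzD j (by omega)
  haveI : D.IsLE 1 := (DerivedCategory.isLE_iff _ _).2 fun j hj => hzD j (by omega)
  obtain ⟨N, ⟨eN⟩⟩ := DerivedCategory.exists_iso_singleFunctor_obj_of_isGE_of_isLE D 1
  let eN' : N ≅ Coh.structureModule I.subscheme :=
    ((DerivedCategory.singleFunctorCompHomologyFunctorIso _ 1).app N).symm ≪≫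
      (DerivedCategory.homologyFunctor _ 1).mapIso (eN.symm ≪≫ eD) ≪≫ eH ≪≫
      DerPerf.pullUnitIso I.subschemeι
  exact ⟨eN ≪≫ (DerivedCategory.singleFunctor _ 1).mapIso eN' ≪≫
    ((SingleFunctors.shiftIso (DerivedCategory.singleFunctors I.subscheme.Modules) (-1) 1 0 (by omega)).app _).symm⟩

/-- a closed immersion isomorphic to such a subscheme -/
theorem nonempty_adjoint_cartier {Z P : Scheme.{u}} [IsNoetherian P] (I : P.IdealSheafData)
    (hI : BlowUp.IsEffCartierIdeal I) (hL : ClSub.IsInverseOf (Coh.structureModule P) (ClSub.idealMod I))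
    {i : Z ⟶ P} (e : Z ≅ I.subscheme) (he : e.hom ≫ I.subschemeι = i) [DCoh.HasRpush i]
    {hi : DCoh.RpushPreservesQCoh i} {d : DCoh.DQCoh P ⥤ DCoh.DQCoh Z} (adj : DCoh.RpushQ i hi ⊣ d)
    (O : DCoh.DQCoh P) (hO : Nonempty (O.obj ≅ DCoh.inD P (Coh.structureModule P))) :
    Nonempty ((d.obj O).obj ≅ (DCoh.inD Z (Coh.structureModule Z))⟦-(1 : ℤ)⟧) := by
  let ι := I.subschemeι
  haveI : CompactSpace I.subscheme := QuasiCompact.compactSpace_of_compactSpace ι
  haveI : QuasiSeparatedSpace I.subscheme := quasiSeparatedSpace_of_quasiSeparated ι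
  haveI := DerPush.hasRpush_sch ι
  haveI := DerPush.hasRpush_sch e.hom
  have hι : DCoh.RpushPreservesQCoh ι := fun K hK => DQPush.isQCohD_rpush ι hK
  have he' : DCoh.RpushPreservesQCoh e.hom := fun K hK => DQPush.isQCohD_rpush e.hom hK
  haveI := isLeftAdjoint_rpushQ ι hι
  let adjι := Adjunction.ofIsLeftAdjoint (DCoh.RpushQ ι hι)
  have hc : IsClosed (Set.range e.hom.base) := e.hom.isClosedEmbedding.isClosed_range
  obtain ⟨g⟩ := nonempty_adjoint_subscheme I hI hL adjι O hO
  let E : (DCoh.RpushQ ι hι).rightAdjoint ⋙ rdQ e.hom ≅ d :=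
    (((adjClopen e.hom hc he').comp adjι).ofNatIsoLeft (rpushQComp e.hom ι i he he' hι hi).symm).rightAdjointUniq adj
  haveI := KFlat.hasLpull e.hom
  obtain ⟨el⟩ := Dual3Nu.nonempty_lpull_RD_nat e.hom
  obtain ⟨sh⟩ := AVMukai.nonempty_lpull_shift e.hom (DCoh.inD I.subscheme (Coh.structureModule I.subscheme)) (-1)
  obtain ⟨u⟩ := PerfPush.nonempty_lpull_unit e.hom
  exact ⟨((ObjectProperty.ι _).mapIso (E.app O)).symm ≪≫ (RD e.hom).mapIso g ≪≫ (el.app _).symm ≪≫ sh ≪≫
    (shiftFunctor (DCoh.D Z) (-1 : ℤ)).mapIso u⟩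

end Groth.Agent.SmoothShriek
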