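import Groth.Agent.LefZero.Inverse
import Groth.Agent.TMul.AmpleBasis
import Mathlib.AlgebraicGeometry.AffineSpace

/-!
The diagonal of the affine line is the zero scheme of `x₁ - x₂`.
-/

set_option autoImplicit false
set_option backward.isDefEq.respectTransparency false
set_option backward.isDefEq.respectTransparency.types false
set_option linter.style.haveILetI false
set_option linter.unusedSectionVars false
set_option maxHeartbeats 1000000

universe u

open CategoryTheory Limits AlgebraicGeometry Opposite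
open Groth.Agent.QC (res resO)

noncomputable section

namespace Groth.Agent.SmoothShriek

/-- `X i - c` is not a zero divisor -/
lemma mem_nonZeroDivisors_X_sub_C {R : Type u} [CommRing R] {σ : Type u} (i : σ) (c : R) :
    (MvPolynomial.X i - MvPolynomial.C c : MvPolynomial σ R) ∈ nonZeroDivisors (MvPolynomial σ R) := by
  classical
  let τ : R → (MvPolynomial σ R →ₐ[R] MvPolynomial σ R) := fun d =>
    MvPolynomial.aeval fun j => MvPolynomial.X j + (if j = i then MvPolynomial.C d else 0)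
  have h : ∀ (d d' : R), d + d' = 0 → ∀ p, τ d (τ d' p) = p := fun d d' hdd p => by
    have : (τ d).comp (τ d') = AlgHom.id R _ := by
      refine MvPolynomial.algHom_ext fun j => ?_
      by_cases hj : j = i
      · subst hj
        simp [τ]
        rw [add_assoc, ← map_add, hdd, map_zero, add_zero]
      · simp [τ, hj]
    exact DFunLike.congr_fun this p
  refine mem_nonZeroDivisors_iff_right.2 fun p hp => ?_
  have h1 := congrArg (τ c) hp
  rw [map_mul, map_zero] at h1
  have h2 : τ c (MvPolynomial.X i - MvPolynomial.C c) = MvPolynomial.X i := by simp [τ]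
  rw [h2] at h1
  have h3 : τ c p = 0 := by
    ext m
    have := congrArg (MvPolynomial.coeff (m + Finsupp.single i 1)) h1
    rwa [MvPolynomial.coeff_mul_X, MvPolynomial.coeff_zero] at this
  rw [← h (-c) c (neg_add_cancel c) p, h3, map_zero]

/-- a non zero divisor of the functions on an affine scheme is one in every stalk -/
lemma germ_mem_nonZeroDivisors {A : Scheme.{u}} [IsAffine A] {t : Γ(A, ⊤)} (ht : t ∈ nonZeroDivisors Γ(A, ⊤))
    (x : A) : (A.presheaf.germ ⊤ x trivial).hom t ∈ nonZeroDivisors (A.presheaf.stalk x) := by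
  letI := TopCat.Presheaf.algebra_section_stalk A.presheaf (⟨x, trivial⟩ : (⊤ : A.Opens))
  haveI := (isAffineOpen_top A).isLocalization_stalk (⟨x, trivial⟩ : (⊤ : A.Opens))
  exact (IsLocalization.nonZeroDivisors_le_comap
    ((isAffineOpen_top A).primeIdealOf (⟨x, trivial⟩ : (⊤ : A.Opens))).asIdeal.primeCompl (A.presheaf.stalk x)) ht

/-- a function all of whose germs are non zero divisors is one on every open -/
lemma eq_zero_of_mul {A : Scheme.{u}} {t : Γ(A, ⊤)}
    (ht : ∀ x, (A.presheaf.germ ⊤ x trivial).hom t ∈ nonZeroDivisors (A.presheaf.stalk x))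
    (U : A.Opens) (a : Γ(A, U)) (h : resO A (le_top : U ≤ ⊤) t * a = 0) : a = 0 := by
  refine TopCat.Presheaf.section_ext A.sheaf U a 0 fun x hx => ?_
  show (A.presheaf.germ U x hx).hom a = (A.presheaf.germ U x hx).hom 0
  rw [map_zero]
  have h1 := congrArg (A.presheaf.germ U x hx).hom h
  rw [map_zero, map_mul] at h1
  have h2 : (A.presheaf.germ U x hx).hom (resO A (le_top : U ≤ ⊤) t) = (A.presheaf.germ ⊤ x trivial).hom t :=
    A.presheaf.germ_res_apply _ _ _ t
  rw [h2, mul_comm] at h1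
  exact (mul_right_mem_nonZeroDivisors_eq_zero_iff (ht x)).1 h1

/-- multiplication by a function as a section of the structure sheaf -/
abbrev mulBy {P : Scheme.{u}} (t : Γ(P, ⊤)) : Coh.structureModule P ⟶ Coh.structureModule P :=
  TMul.homOf (L := Coh.structureModule P) t

lemma mono_mulBy {P : Scheme.{u}} {t : Γ(P, ⊤)}
    (ht : ∀ x, (P.presheaf.germ ⊤ x trivial).hom t ∈ nonZeroDivisors (P.presheaf.stalk x)) : Mono (mulBy t) := by
  refine (QC.mono_iff_app_injective _).2 fun U => (injective_iff_map_eq_zero _).2 fun a ha => ?_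
  rw [TMul.app_eq_smul, TMul.val_homOf] at ha
  refine eq_zero_of_mul ht U a ?_
  rw [mul_comm]
  exact ha

/-- factoring through the zero scheme of a function -/
lemma le_ker_iff {P Z : Scheme.{u}} (t : Γ(P, ⊤)) (g : Z ⟶ P) [QuasiCompact g] :
    PicF2.zeroScheme (Coh.structureModule P) (mulBy t) ≤ g.ker ↔ g.appTop.hom t = 0 := by
  have hI : ∀ W : P.affineOpens, (PicF2.zeroScheme (Coh.structureModule P) (mulBy t)).ideal W =
      Ideal.span {resO P (le_top : W.1 ≤ ⊤) t} := fun W => by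
    refine ZeroSch.ideal_zeroScheme_eq_span (mulBy t) TMul.isInvertible_structureModule W (TMul.isGen_one W.1) ?_
    rw [TMul.val_homOf]
    exact (mul_one (M := Γ(P, W.1)) _).symm
  have hnat : ∀ W : P.Opens, (g.app W).hom (resO P (le_top : W ≤ ⊤) t) =
      resO Z (le_top : g ⁻¹ᵁ W ≤ ⊤) (g.appTop.hom t) := fun W =>
    congr($(g.naturality (homOfLE (le_top : W ≤ ⊤)).op).hom t)
  constructor
  · intro h
    refine TopCat.Presheaf.section_ext Z.sheaf ⊤ _ 0 fun z _ => ?_
    show (Z.presheaf.germ ⊤ z trivial).hom _ = (Z.presheaf.germ ⊤ z trivial).hom 0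
    rw [map_zero]
    obtain ⟨W, hW, hzW, -⟩ := exists_isAffineOpen_mem_and_subset (X := P) (x := g.base z) (U := ⊤) trivial
    have h1 := h ⟨W, hW⟩
    rw [hI, Scheme.Hom.ker_apply, Ideal.span_le, Set.singleton_subset_iff, SetLike.mem_coe, RingHom.mem_ker,
      hnat] at h1
    have h2 := congrArg (Z.presheaf.germ (g ⁻¹ᵁ W) z hzW).hom h1
    rw [map_zero] at h2
    exact (Z.presheaf.germ_res_apply _ _ _ _).symm.trans h2
  · intro h W
    rw [hI, Scheme.Hom.ker_apply, Ideal.span_le, Set.singleton_subset_iff, SetLike.mem_coe, RingHom.mem_ker,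
      hnat, h, map_zero]

section

variable (Y : Scheme.{u})



/-- `x₁ - x₂` on `A¹ ×_Y A¹` -/
def diff : Γ((AffineSpace (ULift.{u} (Fin 1)) (AffineSpace (ULift.{u} (Fin 1)) Y)), ⊤) :=
  AffineSpace.coord (AffineSpace (ULift.{u} (Fin 1)) Y) ⟨0⟩ - ((AffineSpace (ULift.{u} (Fin 1)) (AffineSpace (ULift.{u} (Fin 1)) Y)) ↘ (AffineSpace (ULift.{u} (Fin 1)) Y)).appTop.hom (AffineSpace.coord Y ⟨0⟩)

/-- the diagonal of the affine line -/
def diag : (AffineSpace (ULift.{u} (Fin 1)) Y) ⟶ (AffineSpace (ULift.{u} (Fin 1)) (AffineSpace (ULift.{u} (Fin 1)) Y)) := AffineSpace.homOfVector (𝟙 (AffineSpace (ULift.{u} (Fin 1)) Y)) (AffineSpace.coord Y)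

lemma diag_snd : diag Y ≫ ((AffineSpace (ULift.{u} (Fin 1)) (AffineSpace (ULift.{u} (Fin 1)) Y)) ↘ (AffineSpace (ULift.{u} (Fin 1)) Y)) = 𝟙 (AffineSpace (ULift.{u} (Fin 1)) Y) := AffineSpace.homOfVector_over _ _

lemma diag_coord (i : (ULift.{u} (Fin 1))) : (diag Y).appTop.hom (AffineSpace.coord (AffineSpace (ULift.{u} (Fin 1)) Y) i) = AffineSpace.coord Y i :=
  AffineSpace.homOfVector_appTop_coord _ _ i

lemma diag_fst : diag Y ≫ AffineSpace.map (ULift.{u} (Fin 1)) ((AffineSpace (ULift.{u} (Fin 1)) Y) ↘ Y) = 𝟙 (AffineSpace (ULift.{u} (Fin 1)) Y) := by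
  refine AffineSpace.hom_ext ?_ fun i => ?_
  · rw [Category.assoc, AffineSpace.map_over, ← Category.assoc, diag_snd]
  · rw [Scheme.Hom.comp_appTop, CommRingCat.comp_apply, AffineSpace.map_appTop_coord, diag_coord]
    rfl

lemma diag_diff : (diag Y).appTop.hom (diff Y) = 0 := by
  rw [diff, map_sub, diag_coord, ← CommRingCat.comp_apply, ← Scheme.Hom.comp_appTop, diag_snd]
  exact sub_self _

lemma germ_diff (x : (AffineSpace (ULift.{u} (Fin 1)) (AffineSpace (ULift.{u} (Fin 1)) Y))) :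
    (((AffineSpace (ULift.{u} (Fin 1)) (AffineSpace (ULift.{u} (Fin 1)) Y))).presheaf.germ ⊤ x trivial).hom (diff Y) ∈ nonZeroDivisors (((AffineSpace (ULift.{u} (Fin 1)) (AffineSpace (ULift.{u} (Fin 1)) Y))).presheaf.stalk x) := by
  obtain ⟨V, hV, hxV, -⟩ := exists_isAffineOpen_mem_and_subset (X := (AffineSpace (ULift.{u} (Fin 1)) Y)) (x := ((AffineSpace (ULift.{u} (Fin 1)) (AffineSpace (ULift.{u} (Fin 1)) Y)) ↘ (AffineSpace (ULift.{u} (Fin 1)) Y)).base x) (U := ⊤) trivial
  haveI : IsAffine (V : Scheme.{u}) := hV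
  let k := AffineSpace.map (ULift.{u} (Fin 1)) V.ι
  haveI : IsOpenImmersion k :=
    MorphismProperty.of_isPullback (P := @IsOpenImmersion) (AffineSpace.isPullback_map V.ι).flip inferInstance
  obtain ⟨y, rfl⟩ : ∃ y, k.base y = x := by
    obtain ⟨y, hy, -⟩ := Scheme.exists_preimage_of_isPullback (AffineSpace.isPullback_map (n := (ULift.{u} (Fin 1))) V.ι) x
      (⟨_, hxV⟩ : (V : Scheme.{u})) rfl
    exact ⟨y, hy⟩
  let c : Γ((V : Scheme.{u}), ⊤) := V.ι.appTop.hom (AffineSpace.coord Y ⟨0⟩)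
  let φ : MvPolynomial (ULift.{u} (Fin 1)) Γ((V : Scheme.{u}), ⊤) →+* Γ(AffineSpace (ULift.{u} (Fin 1)) (V : Scheme.{u}), ⊤) :=
    MvPolynomial.eval₂Hom (AffineSpace (ULift.{u} (Fin 1)) (V : Scheme.{u}) ↘ (V : Scheme.{u})).appTop.hom (AffineSpace.coord _)
  have hφ : Function.Bijective φ := by
    have : IsIso (CommRingCat.ofHom φ) := by
      have h := AffineSpace.isoOfIsAffine_hom_appTop (n := (ULift.{u} (Fin 1))) (S := (V : Scheme.{u}))
      rw [← Iso.inv_comp_eq] at h
      rw [← h]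
      infer_instance
    exact ConcreteCategory.bijective_of_isIso (CommRingCat.ofHom φ)
  have ht : k.appTop.hom (diff Y) = φ (MvPolynomial.X ⟨0⟩ - MvPolynomial.C c) := by
    rw [diff, map_sub, map_sub, AffineSpace.map_appTop_coord, ← CommRingCat.comp_apply, ← Scheme.Hom.comp_appTop,
      AffineSpace.map_over, Scheme.Hom.comp_appTop, CommRingCat.comp_apply]
    simp [φ, c]
  have hn : k.appTop.hom (diff Y) ∈ nonZeroDivisors Γ(AffineSpace (ULift.{u} (Fin 1)) (V : Scheme.{u}), ⊤) := by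
    rw [ht]
    let e := RingEquiv.ofBijective φ hφ
    exact MulEquivClass.map_nonZeroDivisors e ▸ Submonoid.mem_map_of_mem _ (mem_nonZeroDivisors_X_sub_C _ c)
  have h1 := germ_mem_nonZeroDivisors hn y
  have h2 := Scheme.Hom.germ_stalkMap_apply k ⊤ y trivial (diff Y)
  exact mem_nonZeroDivisors_of_injective (f := (k.stalkMap y).hom)
    (ConcreteCategory.bijective_of_isIso (k.stalkMap y)).1 (Set.mem_of_eq_of_mem h2 h1)

/-- **the diagonal is an effective Cartier divisor with trivial ideal** -/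
theorem exists_diag_cartier [IsLocallyNoetherian (AffineSpace (ULift.{u} (Fin 1)) (AffineSpace (ULift.{u} (Fin 1)) Y))] [IsSeparated ((AffineSpace (ULift.{u} (Fin 1)) Y) ↘ Y)] :
    ∃ I : ((AffineSpace (ULift.{u} (Fin 1)) (AffineSpace (ULift.{u} (Fin 1)) Y))).IdealSheafData, BlowUp.IsEffCartierIdeal I ∧
      ClSub.IsInverseOf (Coh.structureModule (AffineSpace (ULift.{u} (Fin 1)) (AffineSpace (ULift.{u} (Fin 1)) Y))) (ClSub.idealMod I) ∧
      ∃ e : (AffineSpace (ULift.{u} (Fin 1)) Y) ≅ I.subscheme, e.hom ≫ I.subschemeι = diag Y := by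
  haveI : Mono (mulBy (diff Y)) := mono_mulBy (germ_diff Y)
  let I := PicF2.zeroScheme (Coh.structureModule (AffineSpace (ULift.{u} (Fin 1)) (AffineSpace (ULift.{u} (Fin 1)) Y))) (mulBy (diff Y))
  obtain ⟨hI, hL⟩ := LefZero.isInverseOf_zeroScheme TMul.isInvertible_structureModule (mulBy (diff Y))
  haveI : IsSeparated ((AffineSpace (ULift.{u} (Fin 1)) (AffineSpace (ULift.{u} (Fin 1)) Y)) ↘ (AffineSpace (ULift.{u} (Fin 1)) Y)) :=
    MorphismProperty.of_isPullback (P := @IsSeparated) (AffineSpace.isPullback_map ((AffineSpace (ULift.{u} (Fin 1)) Y) ↘ Y)) ‹_›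
  haveI : IsClosedImmersion (diag Y ≫ ((AffineSpace (ULift.{u} (Fin 1)) (AffineSpace (ULift.{u} (Fin 1)) Y)) ↘ (AffineSpace (ULift.{u} (Fin 1)) Y))) := by rw [diag_snd]; infer_instance
  haveI : IsClosedImmersion (diag Y) := IsClosedImmersion.of_comp (diag Y) ((AffineSpace (ULift.{u} (Fin 1)) (AffineSpace (ULift.{u} (Fin 1)) Y)) ↘ (AffineSpace (ULift.{u} (Fin 1)) Y))
  have hker : I.subschemeι.ker ≤ (diag Y).ker := by
    rw [Scheme.IdealSheafData.ker_subschemeι]
    exact (le_ker_iff (diff Y) (diag Y)).2 (diag_diff Y)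
  let e := IsClosedImmersion.lift I.subschemeι (diag Y) hker
  have he : e ≫ I.subschemeι = diag Y := IsClosedImmersion.lift_fac _ _ _
  have hzero : I.subschemeι.appTop.hom (diff Y) = 0 :=
    (le_ker_iff (diff Y) I.subschemeι).1 (le_of_eq I.ker_subschemeι.symm)
  have hback : I.subschemeι ≫ ((AffineSpace (ULift.{u} (Fin 1)) (AffineSpace (ULift.{u} (Fin 1)) Y)) ↘ (AffineSpace (ULift.{u} (Fin 1)) Y)) ≫ diag Y = I.subschemeι := by
    refine AffineSpace.hom_ext ?_ fun i => ?_
    · rw [Category.assoc, Category.assoc, diag_snd, Category.comp_id]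
    · obtain rfl : i = ⟨0⟩ := Subsingleton.elim _ _
      rw [Scheme.Hom.comp_appTop, Scheme.Hom.comp_appTop, CommRingCat.comp_apply, CommRingCat.comp_apply,
        diag_coord]
      rw [diff, map_sub, sub_eq_zero] at hzero
      exact hzero.symm
  refine ⟨I, hI, hL, ⟨e, I.subschemeι ≫ ((AffineSpace (ULift.{u} (Fin 1)) (AffineSpace (ULift.{u} (Fin 1)) Y)) ↘ (AffineSpace (ULift.{u} (Fin 1)) Y)), ?_, ?_⟩, he⟩
  · rw [← Category.assoc, he, diag_snd]
  · rw [← cancel_mono I.subschemeι, Category.assoc, he, Category.assoc, hback, Category.id_comp]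

end

end Groth.Agent.SmoothShriek
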