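import Groth.Agent.SmoothShriek.Diag
import Groth.Agent.SmoothShriek.Cartier
import Groth.Agent.SmoothShriek.Line
import Groth.Agent.EtChart.Basic
import Groth.Agent.S1510
import Groth.Agent.S7172
import Groth.Agent.S4267
import Groth.Agent.S1006

/-!
**`f^! = Lf^*[1]` for the affine line.**
-/

set_option autoImplicit false
set_option backward.isDefEq.respectTransparency false
set_option backward.isDefEq.respectTransparency.types false
set_option linter.style.haveILetI false
set_option linter.unusedSectionVars false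
set_option maxHeartbeats 1000000

universe u

open CategoryTheory Limits AlgebraicGeometry

attribute [local instance] HasDerivedCategory.standard

namespace Groth.Agent.SmoothShriek

open Groth.Agent.DQCoh (RD)
open Groth.Agent.PerfGen Groth.Agent.DCohShriek

theorem nonempty_shriek_line {Y : Scheme.{u}} [IsNoetherian Y]
    (c : DEt.Compactification (AffineSpace (ULift.{u} (Fin 1)) Y ↘ Y)) [DCoh.HasRpush c.fbar]
    {hc : DCoh.RpushPreservesQCoh c.fbar} {a : DCoh.DQCoh Y ⥤ DCoh.DQCoh c.Xbar}
    (adj : DCoh.RpushQ c.fbar hc ⊣ a) [DCoh.HasLpull (AffineSpace (ULift.{u} (Fin 1)) Y ↘ Y)] :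
    Nonempty (Dual3.bddι Y ⋙ a ⋙ ObjectProperty.ι _ ⋙ RD c.j ≅
      Dual3.bddι Y ⋙ ObjectProperty.ι _ ⋙ DCoh.Lpull (AffineSpace (ULift.{u} (Fin 1)) Y ↘ Y) ⋙
        shiftFunctor (DCoh.D (AffineSpace (ULift.{u} (Fin 1)) Y)) (1 : ℤ)) := by
  let X := AffineSpace (ULift.{u} (Fin 1)) Y
  let f : X ⟶ Y := AffineSpace (ULift.{u} (Fin 1)) Y ↘ Y
  let P := AffineSpace (ULift.{u} (Fin 1)) X
  haveI : Smooth f := EtChart.smooth_over _ Y
  haveI : Smooth (P ↘ X) := EtChart.smooth_over _ X
  haveI : IsAffineHom f := inferInstance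
  haveI : IsSeparated f := inferInstance
  haveI : IsLocallyNoetherian X := LocallyOfFiniteType.isLocallyNoetherian f
  haveI : CompactSpace X := QuasiCompact.compactSpace_of_compactSpace f
  haveI : IsNoetherian X := {}
  haveI : IsLocallyNoetherian P := LocallyOfFiniteType.isLocallyNoetherian (P ↘ X)
  haveI : CompactSpace P := QuasiCompact.compactSpace_of_compactSpace (P ↘ X)
  haveI : IsNoetherian P := {}
  obtain ⟨I, hI, hL, e, he⟩ := exists_diag_cartier Y
  haveI := DerPush.hasRpush_sch (diag Y)
  haveI : IsClosedImmersion (diag Y) := by rw [← he]; infer_instance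
  have hpm : MoreMor.IsPerfectMor (diag Y) := S1510.result (diag Y) (P ↘ X) (by
    rw [diag_snd]
    exact S7172.result (𝟙 X))
  refine nonempty_shriek_of_diag c adj (AffineSpace.isPullback_map f) (diag Y) (diag_fst Y) (diag_snd Y)
    (fun G hG => ?_) 1 (fun hd d adjd O hO => nonempty_adjoint_cartier I hI hL e he adjd O hO)
  obtain ⟨-, a', b', ha', hb'⟩ := S1006.result X G hG
  haveI := ha'
  haveI := hb'
  exact S4267.result (diag Y) hpm G a' hG

end Groth.Agent.SmoothShriek
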