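import Groth.Agent.Dual3BCR.Shriek
import Groth.Agent.DCohShriek.Composite
import Groth.Agent.DCohShriek.Section
import Groth.Agent.Dual3Nu.Main
import Groth.Agent.FMTool.Diag

/-!
**`f^! = Lf^*[n]` from the diagonal.**

For flat `f` flat base change gives `p₂^! Lf^* = Lp₁^* f^!`; composing with `Δ^! = LΔ^*[-n]` and using
`(p₂ Δ)^! = id` gives `f^! [-n] = Lf^*`.
-/

set_option autoImplicit false
set_option backward.isDefEq.respectTransparency false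
set_option backward.isDefEq.respectTransparency.types false
set_option linter.style.haveILetI false
set_option linter.unusedSectionVars false
set_option maxHeartbeats 1600000

universe u

open CategoryTheory Limits AlgebraicGeometry

attribute [local instance] HasDerivedCategory.standard

namespace Groth.Agent.SmoothShriek

open Groth.Agent.DQCoh (RD)
open Groth.Agent.PerfGen Groth.Agent.DCohShriek

/-- **`Δ^! p₁^* f^! = Lf^*`**, with `Δ^! = LΔ^*(-) ⊗ E` -/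
theorem nonempty_shriek_diag_cx {X Y P : Scheme.{u}} [IsNoetherian X] [IsNoetherian Y] {f : X ⟶ Y} [Flat f]
    [IsSeparated f] [LocallyOfFiniteType f] (c : DEt.Compactification f) [DCoh.HasRpush c.fbar]
    {hc : DCoh.RpushPreservesQCoh c.fbar} {a : DCoh.DQCoh Y ⥤ DCoh.DQCoh c.Xbar}
    (adj : DCoh.RpushQ c.fbar hc ⊣ a) [DCoh.HasLpull f]
    {p₁ p₂ : P ⟶ X} (hP : IsPullback p₁ p₂ f f) (Δ : X ⟶ P) (h₁ : Δ ≫ p₁ = 𝟙 X) (h₂ : Δ ≫ p₂ = 𝟙 X)
    [DCoh.HasRpush Δ]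
    (hperf : ∀ G : DCoh.D X, DCoh.IsPerfect G → DCoh.IsPerfect ((DCoh.Rpush Δ).obj G))
    (E : CochainComplex X.Modules ℤ) [DCoh.HasLTensorCx E]
    (hΔ : ∀ (hd : DCoh.RpushPreservesQCoh Δ) (d : DCoh.DQCoh P ⥤ DCoh.DQCoh X) (_ : DCoh.RpushQ Δ hd ⊣ d)
      (O : DCoh.DQCoh P), Nonempty (O.obj ≅ DCoh.inD P (Coh.structureModule P)) →
      Nonempty ((d.obj O).obj ≅ DCoh.toD X E)) :
    Nonempty ((Dual3.bddι Y ⋙ a ⋙ ObjectProperty.ι _ ⋙ RD c.j) ⋙ DCoh.LTensorCx E ≅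
      Dual3.bddι Y ⋙ ObjectProperty.ι _ ⋙ DCoh.Lpull f) := by
  haveI : QuasiCompact f := quasiCompact_of_compactSpace _
  haveI : IsSeparated p₂ := MorphismProperty.of_isPullback (P := @IsSeparated) hP ‹_›
  haveI : QuasiCompact p₂ := MorphismProperty.of_isPullback (P := @QuasiCompact) hP ‹_›
  haveI : LocallyOfFiniteType p₂ := MorphismProperty.of_isPullback (P := @LocallyOfFiniteType) hP ‹_›
  haveI : IsLocallyNoetherian P := LocallyOfFiniteType.isLocallyNoetherian p₂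
  haveI : CompactSpace P := QuasiCompact.compactSpace_of_compactSpace p₂
  haveI : IsNoetherian P := {}
  haveI : IsClosedImmersion (Δ ≫ p₂) := by rw [h₂]; infer_instance
  haveI : IsClosedImmersion Δ := IsClosedImmersion.of_comp Δ p₂
  haveI : IsProper (Δ ≫ p₂) := by rw [h₂]; infer_instance
  -- a compactification of the second projection
  let fb := pullback.snd c.fbar f
  let jb : P ⟶ pullback c.fbar f := pullback.lift (p₁ ≫ c.j) p₂ (by rw [Category.assoc, c.fac, hP.w])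
  have hjb : jb ≫ pullback.fst c.fbar f = p₁ ≫ c.j := pullback.lift_fst _ _ _
  have hfb : jb ≫ fb = p₂ := pullback.lift_snd _ _ _
  have hsq' : IsPullback p₁ (jb ≫ fb) (c.j ≫ c.fbar) f := by rw [hfb, c.fac]; exact hP
  haveI : IsOpenImmersion jb :=
    MorphismProperty.of_isPullback (P := @IsOpenImmersion)
      (hsq'.of_bot hjb.symm (IsPullback.of_hasPullback _ _)) c.isOpenImmersion
  let cb : DEt.Compactification p₂ :=
    { Xbar := pullback c.fbar f, j := jb, fbar := fb, isOpenImmersion := inferInstance,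
      isProper := inferInstance, fac := hfb }
  haveI : CompactSpace (pullback c.fbar f : Scheme.{u}) := QuasiCompact.compactSpace_of_compactSpace fb
  haveI : QuasiSeparatedSpace (pullback c.fbar f : Scheme.{u}) := quasiSeparatedSpace_of_quasiSeparated fb
  haveI : DCoh.HasRpush cb.fbar := DerPush.hasRpush_sch fb
  have hfbq : DCoh.RpushPreservesQCoh cb.fbar := fun K hK => DQPush.isQCohD_rpush fb hK
  haveI := isLeftAdjoint_rpushQ cb.fbar hfbq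
  let adjb := Adjunction.ofIsLeftAdjoint (DCoh.RpushQ cb.fbar hfbq)
  -- compactifications of the diagonal and of the identity
  let cd : DEt.Compactification Δ :=
    { Xbar := X, j := 𝟙 X, fbar := Δ, isOpenImmersion := inferInstance, isProper := inferInstance,
      fac := Category.id_comp _ }
  let ci : DEt.Compactification (Δ ≫ p₂) :=
    { Xbar := X, j := 𝟙 X, fbar := Δ ≫ p₂, isOpenImmersion := inferInstance, isProper := inferInstance,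
      fac := Category.id_comp _ }
  haveI : DCoh.HasRpush cd.fbar := ‹DCoh.HasRpush Δ›
  have hdq : DCoh.RpushPreservesQCoh cd.fbar := fun K hK => DQPush.isQCohD_rpush Δ hK
  haveI := isLeftAdjoint_rpushQ cd.fbar hdq
  let adjd := Adjunction.ofIsLeftAdjoint (DCoh.RpushQ cd.fbar hdq)
  haveI : DCoh.HasRpush ci.fbar := DerPush.hasRpush_sch (Δ ≫ p₂)
  have hiq : DCoh.RpushPreservesQCoh ci.fbar := fun K hK => DQPush.isQCohD_rpush (Δ ≫ p₂) hK
  haveI := isLeftAdjoint_rpushQ ci.fbar hiq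
  let adji := Adjunction.ofIsLeftAdjoint (DCoh.RpushQ ci.fbar hiq)
  -- `(p₂ Δ)^! = Δ^! p₂^!`
  obtain ⟨cmp⟩ := nonempty_shriek_comp cd cb ci adjd adjb adji
  haveI := KFlat.hasLpull p₁
  have hLf : Dual3.LpullPreservesQCoh f := fun K hK => DQCoh.isQCohD_Lpull f K hK
  obtain ⟨η⟩ := Dual3BCR.nonempty_shriek_bc hP c cb adj adjb hLf
  obtain ⟨s⟩ := nonempty_iso_of_section ci.fbar adji (𝟙 X) (𝟙 X) (by rw [Category.id_comp]; exact h₂)
    (Dual3.bddι Y ⋙ Dual3.LpullQ f hLf) (fun K => by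
      obtain ⟨m, hm⟩ := K.property
      haveI : IsProper ci.fbar := ci.isProper
      exact ⟨some m, fin'_some ci.fbar m, HomBC.bdd_Lpull_flat f (bdd_of_isGE hm)⟩)
  let lift : (Dual3.IsBddBelowQ Y).FullSubcategory ⥤ (Dual3.IsBddBelowQ X).FullSubcategory :=
    ObjectProperty.lift _ (Dual3.bddι Y ⋙ Dual3.LpullQ f hLf) fun K => by
      obtain ⟨m, hm⟩ := K.property
      exact ⟨m, (DerivedCategory.isGE_iff _ _).2 fun i hi =>
        HomBC.bdd_Lpull_flat f (bdd_of_isGE hm) m rfl i hi⟩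
  -- `Δ^! = LΔ^*[-n]`
  haveI := KFlat.hasLpull Δ
  let O : DCoh.DQCoh P := ⟨DCoh.inD P (Coh.structureModule P), isQCohD_inD (QC.isQCoh_unit _)⟩
  obtain ⟨eΔ⟩ := hΔ hdq _ adjd O ⟨Iso.refl _⟩
  obtain ⟨ν⟩ := Dual3Nu.nonempty_iso (f := Δ) (adj := adjd) hperf O ⟨Iso.refl _⟩ E ⟨eΔ.symm⟩
  haveI := KFlat.hasLpull jb
  haveI := KFlat.hasLpull (𝟙 X)
  haveI := KFlat.hasLpull (Δ ≫ p₁)
  obtain ⟨ej⟩ := Dual3Nu.nonempty_lpull_RD_nat jb
  obtain ⟨ei⟩ := Dual3Nu.nonempty_lpull_RD_nat (𝟙 X)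
  obtain ⟨id'⟩ := FMTool.nonempty_lpull_id X
  obtain ⟨cmp₁⟩ := KFlat.Lpull_comp_sch Δ p₁
  obtain ⟨idp⟩ : Nonempty (DCoh.Lpull (Δ ≫ p₁) ≅ 𝟭 (DCoh.D X)) := by
    rw! [h₁]
    exact FMTool.nonempty_lpull_id X
  let RD1 : RD (𝟙 X) ≅ 𝟭 (DCoh.D X) := ei.symm ≪≫ id'
  let F := Dual3.bddι Y ⋙ Dual3.LpullQ f hLf
  let G := Dual3.bddι Y ⋙ a ⋙ ObjectProperty.ι _ ⋙ RD c.j
  let e₁ : F ⋙ ObjectProperty.ι _ ≅
      (F ⋙ _ ⋙ ObjectProperty.ι _ ⋙ RD jb) ⋙ DCoh.Lpull Δ ⋙ DCoh.LTensorCx E :=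
    Functor.isoWhiskerLeft (F ⋙ ObjectProperty.ι _) RD1.symm ≪≫ s.symm ≪≫
      Functor.isoWhiskerLeft lift cmp ≪≫
      Functor.isoWhiskerLeft (F ⋙ _ ⋙ rdQ jb ⋙ _ ⋙ ObjectProperty.ι _) RD1 ≪≫
      Functor.isoWhiskerLeft (F ⋙ _ ⋙ rdQ jb) ν
  exact ⟨(e₁ ≪≫ Functor.isoWhiskerRight η.symm (DCoh.Lpull Δ ⋙ DCoh.LTensorCx E) ≪≫
      Functor.isoWhiskerLeft G (Functor.isoWhiskerRight (cmp₁ ≪≫ idp) (DCoh.LTensorCx E))).symm⟩

/-- **`f^! = Lf^*[n]` when `Δ^! O = O[-n]`** -/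
theorem nonempty_shriek_of_diag {X Y P : Scheme.{u}} [IsNoetherian X] [IsNoetherian Y] {f : X ⟶ Y} [Flat f]
    [IsSeparated f] [LocallyOfFiniteType f] (c : DEt.Compactification f) [DCoh.HasRpush c.fbar]
    {hc : DCoh.RpushPreservesQCoh c.fbar} {a : DCoh.DQCoh Y ⥤ DCoh.DQCoh c.Xbar}
    (adj : DCoh.RpushQ c.fbar hc ⊣ a) [DCoh.HasLpull f]
    {p₁ p₂ : P ⟶ X} (hP : IsPullback p₁ p₂ f f) (Δ : X ⟶ P) (h₁ : Δ ≫ p₁ = 𝟙 X) (h₂ : Δ ≫ p₂ = 𝟙 X)
    [DCoh.HasRpush Δ]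
    (hperf : ∀ G : DCoh.D X, DCoh.IsPerfect G → DCoh.IsPerfect ((DCoh.Rpush Δ).obj G)) (n : ℤ)
    (hΔ : ∀ (hd : DCoh.RpushPreservesQCoh Δ) (d : DCoh.DQCoh P ⥤ DCoh.DQCoh X) (_ : DCoh.RpushQ Δ hd ⊣ d)
      (O : DCoh.DQCoh P), Nonempty (O.obj ≅ DCoh.inD P (Coh.structureModule P)) →
      Nonempty ((d.obj O).obj ≅ (DCoh.inD X (Coh.structureModule X))⟦-n⟧)) :
    Nonempty (Dual3.bddι Y ⋙ a ⋙ ObjectProperty.ι _ ⋙ RD c.j ≅
      Dual3.bddι Y ⋙ ObjectProperty.ι _ ⋙ DCoh.Lpull f ⋙ shiftFunctor (DCoh.D X) n) := by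
  haveI : DCoh.HasLTensorCx (Dual3Nu.unitShift X (-n)) := KFlat.hasLTensorCx _
  let eE : DCoh.toD X (Dual3Nu.unitShift X (-n)) ≅ (DCoh.inD X (Coh.structureModule X))⟦-n⟧ :=
    ((DerivedCategory.Q (C := X.Modules)).commShiftIso (-n)).app _ ≪≫
      (shiftFunctor (DCoh.D X) (-n)).mapIso
        ((DerivedCategory.singleFunctorIsoCompQ X.Modules 0).app (Coh.structureModule X)).symm
  obtain ⟨e⟩ := nonempty_shriek_diag_cx c adj hP Δ h₁ h₂ hperf (Dual3Nu.unitShift X (-n)) fun hd d adjd O hO => by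
    obtain ⟨eΔ⟩ := hΔ hd d adjd O hO
    exact ⟨eΔ ≪≫ eE.symm⟩
  obtain ⟨sh⟩ := Dual3Nu.nonempty_ltensor_iso_shift (-n) (Dual3Nu.unitShift X (-n)) (Iso.refl _)
  let G := Dual3.bddι Y ⋙ a ⋙ ObjectProperty.ι _ ⋙ RD c.j
  exact ⟨Functor.isoWhiskerLeft G (shiftFunctorCompIsoId (DCoh.D X) (-n) n (by omega)).symm ≪≫
    Functor.isoWhiskerRight (Functor.isoWhiskerLeft G sh.symm ≪≫ e) (shiftFunctor (DCoh.D X) n)⟩

end Groth.Agent.SmoothShriek
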