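import Groth.Agent.ExtShX.DepthCrit
import Groth.Agent.ExtShX.DualStalk
import Groth.Agent.ExtFund.Main
import Groth.Agent.RefStalk.Refl
import Groth.Agent.HomODer.Main
import Mathlib.RingTheory.Regular.ProjectiveDimension

/-!
`ℰxtⁱ(ι_* O_X, O_P) = 0` off the codimension for a regular immersion, and its value in that degree.
-/

set_option autoImplicit false
set_option linter.style.haveILetI false
set_option linter.unusedSectionVars false
set_option backward.isDefEq.respectTransparency false
set_option backward.isDefEq.respectTransparency.types false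
set_option maxHeartbeats 1000000

universe u

open CategoryTheory CategoryTheory.Limits CategoryTheory.Abelian AlgebraicGeometry RingTheory.Sequence
open scoped Pointwise

noncomputable section

namespace Groth.Agent.SmoothShriek

section Ring

variable {R : Type u} [CommRing R]

lemma hasPdLT_quot : ∀ (rs : List R) (M : Type u) [AddCommGroup M] [Module R M] (k : ℕ),
    IsWeaklyRegular M rs → HasProjectiveDimensionLT (ModuleCat.of R M) (k + 1) →
    HasProjectiveDimensionLT (ModuleCat.of R (M ⧸ (Ideal.ofList rs • ⊤ : Submodule R M))) (k + rs.length + 1) := by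
  intro rs
  induction rs with
  | nil =>
    intro M _ _ k _ h
    have e : (M ⧸ (Ideal.ofList ([] : List R) • ⊤ : Submodule R M)) ≃ₗ[R] M :=
      Submodule.quotEquivOfEqBot _ (by simp [Ideal.ofList])
    haveI : Fact (0 = 0) := ⟨rfl⟩
    exact hasProjectiveDimensionLT_of_iso e.toModuleIso.symm (k + 1)
  | cons r rs ih =>
    intro M _ _ k hreg h
    obtain ⟨hr, hrs⟩ := (isWeaklyRegular_cons_iff M r rs).1 hreg
    have hS := hr.smulShortComplex_shortExact (M := ModuleCat.of R M)
    have h' : HasProjectiveDimensionLT (ModuleCat.of R (QuotSMulTop r M)) (k + 1 + 1) :=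
      hS.hasProjectiveDimensionLT_X₃ (k + 1) h (@hasProjectiveDimensionLT_of_ge _ _ _ _ (k + 1) (k + 1 + 1)
        (Nat.le_succ _) h)
    haveI := ih (QuotSMulTop r M) (k + 1) hrs h'
    rw [show k + (r :: rs).length + 1 = k + 1 + rs.length + 1 by simp; omega]
    exact hasProjectiveDimensionLT_of_iso
      (Submodule.quotOfListConsSMulTopEquivQuotSMulTopInner M r rs).toModuleIso.symm _

/-- `Extⁱ(R/(rs), R) = 0` for `i ≠ length` -/
lemma subsingleton_ext_quot [IsNoetherianRing R] (rs : List R) (h : IsWeaklyRegular R rs) (N : Type u)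
    [AddCommGroup N] [Module R N] (e : (R ⧸ Ideal.ofList rs) ≃ₗ[R] N) (i : ℕ) (hi : i ≠ rs.length) :
    Subsingleton (Ext (ModuleCat.of R N) (ModuleCat.of R R) i) := by
  rcases lt_or_gt_of_ne hi with hlt | hgt
  · refine ExtShX.ext_subsingleton_of_regular N R rs h (fun r hr => ?_) i hlt
    refine Module.mem_annihilator.2 fun z => ?_
    obtain ⟨y, rfl⟩ := e.surjective z
    obtain ⟨a, rfl⟩ := Ideal.Quotient.mk_surjective y
    rw [← map_smul]
    refine (LinearEquiv.map_eq_zero_iff e).2 ?_
    exact Ideal.Quotient.eq_zero_iff_mem.2 (Ideal.mul_mem_right _ _ (Ideal.subset_span hr))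
  · haveI h1 : HasProjectiveDimensionLT (ModuleCat.of R R) (0 + 1) :=
      projective_iff_hasProjectiveDimensionLT_one.1 inferInstance
    haveI := hasPdLT_quot rs R 0 h h1
    haveI : HasProjectiveDimensionLT (ModuleCat.of R N) (0 + rs.length + 1) :=
      hasProjectiveDimensionLT_of_iso (((Submodule.quotEquivOfEq _ _ (Ideal.mul_top (Ideal.ofList rs))).trans e).toModuleIso) _
    exact HasProjectiveDimensionLT.subsingleton (ModuleCat.of R N) (0 + rs.length + 1) i (by omega) _

end Ring

variable {P X : Scheme.{u}} [IsLocallyNoetherian P] {ι : X ⟶ P} [IsClosedImmersion ι] {r : ℕ}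

/-- the Ext sheaf vanishes off the codimension -/
theorem isZero_extSh_unit (hι : RegImm.IsRegularImmersionOfCodim RegImm.Kind.regular r ι) (q : ℕ) (hq : q ≠ r)
    [ModSite.HasSheafHom (O := P.sheaf) ((Scheme.Modules.pushforward ι).obj (Coh.structureModule X))]
    [HasInjectiveResolutions (ModSite.Mod P.sheaf)] :
    IsZero ((ModSite.extSh (O := P.sheaf) ((Scheme.Modules.pushforward ι).obj (Coh.structureModule X)) q).obj
      (Coh.structureModule P)) := by
  refine W7Baer.isZero_of_stalks (X := P) _ fun y => ?_
  haveI : Subsingleton ((DerSch.stalkFunctor P y).obj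
      ((ModSite.extSh (O := P.sheaf) ((Scheme.Modules.pushforward ι).obj (Coh.structureModule X)) q).obj
        (Coh.structureModule P))) := by
    refine (ExtShX.subsingleton_stalk_extSh_iff _ (ExtShX.isCoh_pushOne ι) _ y q).2 ?_
    obtain ⟨eF, -⟩ := RefStalk.exists_structStalk y
    by_cases hy : y ∈ Set.range ι.base
    · obtain ⟨z, rfl⟩ := hy
      obtain ⟨U, l, hzU, hl, -⟩ := ExtFund.exists_chart hι z
      obtain ⟨g, hg, hgs⟩ := ExtShX.exists_one ι z
      let rs := l.reverse.map (P.presheaf.germ U (ι.base z) hzU).hom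
      have hreg : IsWeaklyRegular (P.presheaf.stalk (ι.base z)) rs := hl.reg _ hzU
      have hI : Ideal.ofList rs = Ideal.ofList (l.map (P.presheaf.germ U (ι.base z) hzU).hom) := by
        simp [rs, Ideal.ofList]
      let f := LinearMap.toSpanSingleton (P.presheaf.stalk (ι.base z))
        (((Scheme.Modules.pushforward ι).obj (Coh.structureModule X)).presheaf.stalk (ι.base z)) g
      have hker : LinearMap.ker f = (Ideal.ofList rs : Submodule _ _) := by
        ext a
        rw [LinearMap.mem_ker, hI]
        exact (hg a).trans ((hl.cuts (ι.base z) hzU).2 z rfl a)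
      haveI := subsingleton_ext_quot rs hreg _ ((Submodule.quotEquivOfEq _ _ hker.symm).trans
        (LinearMap.quotKerEquivOfSurjective f hgs)) q (by simpa [rs, hl.len] using hq)
      exact @Equiv.subsingleton _ _
        (((extFunctor q).obj (Opposite.op _)).mapIso eF.toModuleIso.symm).addCommGroupIsoToAddEquiv.toEquiv ‹_›
    · haveI : Subsingleton (((Scheme.Modules.pushforward ι).obj (Coh.structureModule X)).presheaf.stalk y) :=
        KFlat.subsingleton_stalk_push ι _ hy
      haveI : HasProjectiveDimensionLT (ModuleCat.of (P.presheaf.stalk y)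
          (((Scheme.Modules.pushforward ι).obj (Coh.structureModule X)).presheaf.stalk y)) 0 :=
        (ModuleCat.isZero_of_subsingleton _).hasProjectiveDimensionLT_zero
      exact HasProjectiveDimensionLT.subsingleton _ 0 q (Nat.zero_le q) _
  exact ModuleCat.isZero_of_subsingleton _

/-- `Rʳ Hom(O_X, O_P)` is the dual of the top exterior power of the conormal sheaf, the others vanish -/
theorem rightDerived_homO_unit [Dual3.HasHomO ι] (hι : RegImm.IsRegularImmersionOfCodim RegImm.Kind.regular r ι)
    {L : X.Modules} (hL : ExtPow.IsExtPow r (Omega.conormal ι) L) :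
    (∀ q : ℕ, q ≠ r → IsZero (((Dual3.homO ι).rightDerived q).obj (Coh.structureModule P))) ∧
    Nonempty (((Dual3.homO ι).rightDerived r).obj (Coh.structureModule P) ≅ RefHull.dual L) := by
  haveI : ∀ M : P.Modules, ModSite.HasSheafHom (O := P.sheaf) M := fun M => ModSiteTensor.hasSheafHom M
  haveI : HasInjectiveResolutions (ModSite.Mod P.sheaf) := inferInstanceAs (HasInjectiveResolutions P.Modules)
  haveI : HasExt.{u} P.Modules := hasExt_of_enoughInjectives _
  refine ⟨fun q hq => ?_, ?_⟩
  · obtain ⟨e⟩ := HomODer.nonempty_push_rightDerived ι q (Coh.structureModule P)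
    obtain ⟨e'⟩ := ExtShX.nonempty_extShIso ((Scheme.Modules.pushforward ι).obj (Coh.structureModule X)) q
      (Coh.structureModule P)
    haveI := GrothSS.isIso_counit_push ι
    exact IsZero.of_iso ((Scheme.Modules.pullback ι).map_isZero ((isZero_extSh_unit hι q hq).of_iso (e ≪≫ e'.symm)))
      ((asIso (Scheme.Modules.pullbackPushforwardAdjunction ι).counit).app _).symm
  · obtain ⟨e⟩ := HomODer.nonempty_push_rightDerived ι r (Coh.structureModule P)
    obtain ⟨e'⟩ := ExtShX.nonempty_extShIso ((Scheme.Modules.pushforward ι).obj (Coh.structureModule X)) r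
      (Coh.structureModule P)
    obtain ⟨e''⟩ := ExtFund.nonempty_extSh_iso hι (Coh.structureModule P) (QC.isQCoh_unit _) hL
    refine GrothSS.nonempty_iso_of_push ι (e ≪≫ e'.symm ≪≫ e'' ≪≫ (Scheme.Modules.pushforward ι).mapIso
      ((DCoh.sheafHom L).mapIso (DerPerf.pullUnitIso ι) ≪≫ (W7Hull.sheafHomIso L).app (Coh.structureModule X)))

end Groth.Agent.SmoothShriek
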